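import Cfsg.Agent.H798.RG.Neg
import Cfsg.Agent.Nodes.ClsNorm
import Cfsg.Agent.H381.Car.RadTow
import Cfsg.Agent.H460.OT.BruComb

/-!
# S3509, F4: the highest root, its Levi subgroup, and Lang's theorem (helper798)

* `vec_le_top`, `le_top`, `dom_top` : `vec D l (D.nroots - 1)` is the highest root;
* `no_root` : `i a + j a₀` is not a root for `a` orthogonal to `a₀`;
* `stab_RootsJ` : a root automorphism fixing `a₀` preserves the roots orthogonal to `a₀`;
* `lang_LJ` : Lang's theorem for `L_J`, `J` stable; `rp_LJ` : representatives of `W_J` lie in `L_J`;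
* `LJ_conj` : `L_J` normalises `X_{±a₀}`.
-/

set_option autoImplicit false
set_option linter.unusedSectionVars false
set_option maxHeartbeats 400000

namespace Cfsg.Agent.H798.RG

open CoxeterSystem Subgroup Cfsg Cfsg.Lie Cfsg.Lie.ChevalleyDatum
open Cfsg.Agent.ChevalleyStructure Cfsg.Agent.ChevalleyStructure.Elts Cfsg.Agent.ChevalleyStructure.CoxeterGeom
  Cfsg.Agent.ChevalleyStructure.CoxeterGeomTypes Cfsg.Agent.ChevalleyStructure.NPerm
open Cfsg.Agent.Tits.Roots Cfsg.Agent.Tits.Core Cfsg.Agent.Tits.RootComb Cfsg.Agent.Tits.Exchange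
open Cfsg.Agent.Nodes Cfsg.Agent.Nodes.Reps Cfsg.Agent.Nodes.BNOf Cfsg.Agent.Nodes.Coroot Cfsg.Agent.Nodes.SubComb
  Cfsg.Agent.Nodes.RGDChev Cfsg.Agent.Nodes.Bruhat Cfsg.Agent.Nodes.StabComb Cfsg.Agent.Nodes.LeviDec
open Cfsg.Agent.KFacts.RgdBorelTits Cfsg.Agent.KFacts.RgdFilt
open Cfsg.Agent.KFacts.RgdField Cfsg.Agent.KFacts.RgdChevCoord
open Cfsg.Agent.BpExc Cfsg.Agent.BpExc.TorCent Cfsg.Agent.BpExc.TorChev Cfsg.Agent.BpExc.Tow
open Cfsg.Agent.BpExc.TowChev Cfsg.Agent.BpExc.Fr Cfsg.Agent.BpExc.LangFr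
open scoped commutatorElement

universe u v

/-! ### the highest root -/

def TopOK (D : ChevalleyDatum) (l : ℕ) : Prop :=
  0 < D.nroots ∧ ∀ s < D.nroots, ∀ i : Fin l, vec D l s i ≤ vec D l (D.nroots - 1) i

instance (D : ChevalleyDatum) (l : ℕ) : Decidable (TopOK D l) := by unfold TopOK; infer_instance

theorem topOK : TopOK chevG2 2 ∧ TopOK chevB2 2 ∧ TopOK chevD4 4 ∧ TopOK chevF4 4 ∧ TopOK chevE6 6 ∧ TopOK chevE7 7 ∧
    TopOK chevE8 8 := by
  refine ⟨?_, ?_, ?_, ?_, ?_, ?_, ?_⟩ <;> decide +kernel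

variable {D : ChevalleyDatum} {l : ℕ} {M : CoxeterMatrix (Fin l)} (hp : IsType D l M)
  {W : Type v} [Group W] (cs : CoxeterSystem M W)

include hp in
theorem topOK' : TopOK D l := by
  obtain ⟨h1, h2, h3, h4, h5, h6, h7⟩ := topOK
  have hp' := hp
  simp only [IsType, typeList, List.mem_cons, List.not_mem_nil, or_false, Prod.mk.injEq] at hp'
  rcases hp' with ⟨h, e⟩ | ⟨h, e⟩ | ⟨h, e⟩ | ⟨h, e⟩ | ⟨h, e⟩ | ⟨h, e⟩ | ⟨h, e⟩
  · have e' : l = 2 := congrArg Sigma.fst e
    subst h; subst e'; exact h1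
  · have e' : l = 2 := congrArg Sigma.fst e
    subst h; subst e'; exact h2
  · have e' : l = 4 := congrArg Sigma.fst e
    subst h; subst e'; exact h3
  · have e' : l = 4 := congrArg Sigma.fst e
    subst h; subst e'; exact h4
  · have e' : l = 6 := congrArg Sigma.fst e
    subst h; subst e'; exact h5
  · have e' : l = 7 := congrArg Sigma.fst e
    subst h; subst e'; exact h6
  · have e' : l = 8 := congrArg Sigma.fst e
    subst h; subst e'; exact h7

include hp in
theorem nroots_pos : 0 < D.nroots := (topOK' hp).1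

include hp in
theorem top_lt : D.nroots - 1 < D.nroots := Nat.sub_lt (nroots_pos hp) one_pos

include hp in
theorem vec_le_top {s : ℕ} (hs : s < D.nroots) : vec D l s ≤ vec D l (D.nroots - 1) := (topOK' hp).2 s hs

theorem isRoot_top : IsRoot cs hp.isCartan (vec D l (D.nroots - 1)) := isRoot_vec hp cs (top_lt hp)

theorem le_top {a : Fin l → ℤ} (ha : IsRoot cs hp.isCartan a) : a ≤ vec D l (D.nroots - 1) := by
  obtain ⟨s, hs, rfl⟩ := (isRoot_iff hp cs a).1 ha
  exact vec_le_top hp hs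

include hp in
theorem top_nonneg : 0 ≤ vec D l (D.nroots - 1) := by
  intro i
  have h1 := le_top hp M.toCoxeterSystem (isRoot_top hp M.toCoxeterSystem).neg i
  simp only [Pi.neg_apply, Pi.zero_apply] at h1 ⊢
  omega

include hp in
theorem dom_top : Dom (cartanOf D l) (vec D l (D.nroots - 1)) := by
  intro i
  have h1 := le_top hp M.toCoxeterSystem ((isRoot_top hp M.toCoxeterSystem).act (M.toCoxeterSystem.simple i)) i
  rw [rep_simple_eq] at h1
  simp only [Pi.sub_apply, Pi.smul_apply, sr_self, smul_eq_mul, mul_one] at h1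
  linarith

/-- the roots orthogonal to the highest root -/
abbrev JT (cs : CoxeterSystem M W) : Set (Fin l) := orth cs hp.isCartan (vec D l (D.nroots - 1))

variable [Finite W]

theorem exists_u {a : Fin l → ℤ} (ha : a ∈ RootsJ cs hp.isCartan (JT hp cs)) :
    ∃ u : W, rep cs hp.isCartan u a = -a ∧ rep cs hp.isCartan u (vec D l (D.nroots - 1)) = vec D l (D.nroots - 1) := by
  obtain ⟨w, hw, j, hj, rfl⟩ := exists_of_mem_RootsJ ha
  refine ⟨w * cs.simple j * w⁻¹, ?_, rep_of_mem_WJ_orth (mul_mem (mul_mem hw (simple_mem_WJ cs hj)) (inv_mem hw))⟩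
  rw [rep_mul_apply, rep_mul_apply, rep_inv_apply, rep_simple_sr, map_neg]

theorem no_root {a : Fin l → ℤ} (ha : a ∈ RootsJ cs hp.isCartan (JT hp cs)) {i j : ℤ} (hi : 0 < i) (hj : 0 < j) :
    ¬ IsRoot cs hp.isCartan (i • a + j • vec D l (D.nroots - 1)) := by
  intro h
  obtain ⟨u, hu, hu'⟩ := exists_u hp cs ha
  have h1 := h.act u
  rw [map_add, map_zsmul, map_zsmul, hu, hu'] at h1
  have h2 := le_top hp cs h
  have h3 := le_top hp cs h1
  have h0 := top_nonneg (D := D) (l := l) hp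
  have hne := (isRoot_top hp cs).ne_zero
  obtain ⟨k, hk⟩ := Function.ne_iff.1 hne
  have hj1 : j = 1 := by
    have e2 := h2 k
    have e3 := h3 k
    have e0 := h0 k
    simp only [Pi.add_apply, Pi.smul_apply, Pi.neg_apply, smul_eq_mul, Pi.zero_apply] at e2 e3 e0 hk
    have e4 : 0 < vec D l (D.nroots - 1) k := lt_of_le_of_ne e0 (Ne.symm hk)
    nlinarith
  subst hj1
  apply ha.1.ne_zero
  funext k
  have e2 := h2 k
  have e3 := h3 k
  simp only [Pi.add_apply, Pi.smul_apply, Pi.neg_apply, smul_eq_mul, one_mul, Pi.zero_apply] at e2 e3 ⊢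
  have e4 : i * a k ≤ 0 := by linarith
  have e5 : i * a k ≥ 0 := by nlinarith
  exact (mul_eq_zero.1 (le_antisymm e4 e5)).resolve_left hi.ne'

theorem ne_top {a : Fin l → ℤ} (ha : a ∈ RootsJ cs hp.isCartan (JT hp cs)) : a ≠ vec D l (D.nroots - 1) := by
  rintro rfl
  have h := no_root hp cs (RootsJ.neg ha) (i := 1) (j := 2) one_pos two_pos
  apply h
  have e : (1 : ℤ) • -vec D l (D.nroots - 1) + (2 : ℤ) • vec D l (D.nroots - 1) = vec D l (D.nroots - 1) := by
    rw [one_smul, two_smul]; abel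
  rw [e]
  exact isRoot_top hp cs

/-- **The roots orthogonal to the highest root, in terms of root strings.** -/
theorem mem_RootsJ_top_iff {a : Fin l → ℤ} (ha : IsRoot cs hp.isCartan a) :
    a ∈ RootsJ cs hp.isCartan (JT hp cs) ↔ a ≠ vec D l (D.nroots - 1) ∧ -a ≠ vec D l (D.nroots - 1) ∧
      ¬ IsRoot cs hp.isCartan (a + vec D l (D.nroots - 1)) ∧ ¬ IsRoot cs hp.isCartan (-a + vec D l (D.nroots - 1)) := by
  constructor
  · intro h
    have h1 := no_root hp cs h one_pos one_pos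
    have h2 := no_root hp cs (RootsJ.neg h) one_pos one_pos
    rw [one_smul, one_smul] at h1 h2
    exact ⟨ne_top hp cs h, ne_top hp cs (RootsJ.neg h), h1, h2⟩
  · rintro ⟨h1, h2, h3, h4⟩
    have := Fintype.ofFinite W
    rw [Cfsg.Agent.Nodes.ClsNorm.mem_RootsJ_orth_iff (dom_top hp) ha]
    rw [← cpr_zero_iff cs hp.isCartan a (isRoot_top hp cs)]
    by_contra h5
    rcases lt_or_gt_of_ne h5 with h6 | h6
    · refine h3 ?_
      have h7 := H460.OT.isRoot_sub_of_pos ha (isRoot_top hp cs).neg (fun e => h2 (by rw [e, neg_neg])) (by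
        rw [cpr_neg_right cs hp.isCartan a (isRoot_top hp cs)]; omega)
      rwa [sub_neg_eq_add] at h7
    · refine h4 ?_
      have h7 := H460.OT.isRoot_sub_of_pos ha (isRoot_top hp cs) h1 h6
      have h8 := h7.neg
      rwa [neg_sub, sub_eq_neg_add] at h8

/-- a root automorphism fixing the highest root preserves the roots orthogonal to it -/
theorem stab_RootsJ {g : (Fin l → ℤ) ≃+ (Fin l → ℤ)} (hg : ∀ a, IsRoot cs hp.isCartan (g a) ↔ IsRoot cs hp.isCartan a)
    (ht : g (vec D l (D.nroots - 1)) = vec D l (D.nroots - 1)) {a : Fin l → ℤ}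
    (ha : a ∈ RootsJ cs hp.isCartan (JT hp cs)) : g a ∈ RootsJ cs hp.isCartan (JT hp cs) := by
  have h0 := ha.1
  rw [mem_RootsJ_top_iff hp cs h0] at ha
  rw [mem_RootsJ_top_iff hp cs ((hg a).2 h0)]
  obtain ⟨h1, h2, h3, h4⟩ := ha
  refine ⟨fun h => h1 (g.injective (by rw [h, ht])), fun h => h2 (g.injective (by rw [map_neg, h, ht])), fun h => h3 ?_,
    fun h => h4 ?_⟩
  · rw [← hg, map_add, ht]; exact h
  · rw [← hg, map_add, map_neg, ht]; exact h

/-! ### the group -/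

section K

variable {k : Type u} [Field k]

theorem XX_comm_top {a : Fin l → ℤ} (ha : a ∈ RootsJ cs hp.isCartan (JT hp cs)) {x y : ↥(D.group k)}
    (hx : x ∈ XX D l k a) (hy : y ∈ XX D l k (vec D l (D.nroots - 1))) : x * y = y * x := by
  have h1 := intComm_XX hp cs (k := k) a (vec D l (D.nroots - 1)) ha.1 (isRoot_top hp cs) (ne_top hp cs ha) (fun e =>
    ne_top hp cs (RootsJ.neg ha) (by rw [e, neg_neg])) x hx y hy
  have h2 : {z | IB cs hp.isCartan a (vec D l (D.nroots - 1)) z} = ∅ := by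
    ext z
    simp only [Set.mem_ofPred_eq, Set.mem_empty_iff_false, iff_false]
    rintro ⟨hr, i, j, hi, hj, rfl⟩
    exact no_root hp cs ha hi hj hr
  rw [h2] at h1
  have h3 : FS (XX D l k) (∅ : Set (Fin l → ℤ)) = ⊥ := by
    unfold FS
    simp
  rw [h3, Subgroup.mem_bot] at h1
  exact commutatorElement_eq_one_iff_mul_comm.1 h1

theorem XX_comm_top' {a : Fin l → ℤ} (ha : a ∈ RootsJ cs hp.isCartan (JT hp cs)) {x y : ↥(D.group k)}
    (hx : x ∈ XX D l k a) (hy : y ∈ XX D l k (-vec D l (D.nroots - 1))) : x * y = y * x := by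
  have h1 := intComm_XX hp cs (k := k) a (-vec D l (D.nroots - 1)) ha.1 (isRoot_top hp cs).neg
    (fun e => ne_top hp cs (RootsJ.neg ha) (by rw [e, neg_neg])) (fun e => ne_top hp cs ha (by rw [e, neg_neg])) x hx y hy
  have h2 : {z | IB cs hp.isCartan a (-vec D l (D.nroots - 1)) z} = ∅ := by
    ext z
    simp only [Set.mem_ofPred_eq, Set.mem_empty_iff_false, iff_false]
    rintro ⟨hr, i, j, hi, hj, rfl⟩
    refine no_root hp cs (RootsJ.neg ha) hi hj ?_
    have h3 := hr.neg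
    rw [smul_neg, neg_add, neg_neg, ← smul_neg] at h3
    exact h3
  rw [h2] at h1
  have h3 : FS (XX D l k) (∅ : Set (Fin l → ℤ)) = ⊥ := by
    unfold FS
    simp
  rw [h3, Subgroup.mem_bot] at h1
  exact commutatorElement_eq_one_iff_mul_comm.1 h1

variable (r : ℕ) [Fact r.Prime] [CharP k r] (hk : LocFin k)

include r hk in
/-- `L_J` normalises `X_{±a₀}` -/
theorem LJ_conj {b : Fin l → ℤ} (hb : b = vec D l (D.nroots - 1) ∨ b = -vec D l (D.nroots - 1)) {y : ↥(D.group k)}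
    (hy : y ∈ LJ cs hp.isCartan (TT D k) (XX D l k) (JT hp cs)) {x : ↥(D.group k)} :
    y * x * y⁻¹ ∈ XX D l k b ↔ x ∈ XX D l k b := by
  have hbr : IsRoot cs hp.isCartan b := by
    rcases hb with rfl | rfl
    · exact isRoot_top hp cs
    · exact (isRoot_top hp cs).neg
  have h1 : LJ cs hp.isCartan (TT D k) (XX D l k) (JT hp cs) ≤ normalizer (XX D l k b : Set ↥(D.group k)) := by
    refine sup_le ?_ (RGD.Sup_le fun a ha x hx => ?_)
    · have h1 := (tow hp cs hk r (k := k)).T_le_normalizer (S := {b}) (fun x hx => by rw [hx]; exact hbr)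
      rw [TL_eq hp hk, XL_eq hp hk] at h1
      have e : RGD.Sup (XX D l k) {b} = XX D l k b := by
        apply le_antisymm
        · exact RGD.Sup_le fun c hc => by rw [hc]
        · exact RGD.le_Sup rfl
      rwa [e] at h1
    · rw [mem_normalizer_iff]
      intro z
      have hc : ∀ z ∈ XX D l k b, x * z * x⁻¹ = z := by
        intro z hz
        rw [mul_inv_eq_iff_eq_mul]
        rcases hb with rfl | rfl
        · exact XX_comm_top hp cs ha hx hz
        · exact XX_comm_top' hp cs ha hx hz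
      constructor
      · intro hz
        rwa [hc z hz]
      · intro hz
        have h2 := hc _ hz
        have h3 : z = x⁻¹ * (x * z * x⁻¹) * x := by group
        have h4 : x * z * x⁻¹ = z := by
          have h5 : x * (x * z * x⁻¹) = (x * z * x⁻¹) * x := mul_inv_eq_iff_eq_mul.1 h2
          calc x * z * x⁻¹ = x⁻¹ * (x * (x * z * x⁻¹)) := by group
            _ = x⁻¹ * ((x * z * x⁻¹) * x) := by rw [h5]
            _ = z := by group
        rwa [h4] at hz
  exact ((mem_normalizer_iff.1 (h1 hy)) x).symm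

variable {r}

include hk in
theorem rp_LJ {J : Set (Fin l)} {w : W} (hw : w ∈ WJ cs J) {y : ↥(D.group k)}
    (hy : Rp cs (tow (k := k) hp cs hk r).nsys w y) : y ∈ LJ cs hp.isCartan (TT D k) (XX D l k) J := by
  obtain ⟨j, hj⟩ := (tow (k := k) hp cs hk r).rp_down hy
  have h1 := rp_mem_LJ ((tow (k := k) hp cs hk r).rgd j) hw hj
  have h2 : LJ cs hp.isCartan (Tj hp (k := k) j) (Xj hp j) J ≤
      LJ cs hp.isCartan (TL (Tj hp (k := k))) (XL (Xj hp (k := k))) J :=
    sup_le_sup (le_TL j) (Sup_le_SupL j _)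
  rw [TL_eq hp hk, XL_eq hp hk] at h2
  exact h2 h1

variable [IsAlgClosed k]

include hk in
/-- **Lang's theorem for `L_J`.** -/
theorem lang_LJ (hZ : Subgroup.center ↥(D.group k) = ⊥) {e : ℕ} (he : 0 < e) {σ : MulAut ↥(D.group k)}
    {g : (Fin l → ℤ) ≃+ (Fin l → ℤ)}
    (hσ : IsFrob r e σ) (F : Fr cs hp.isCartan (TT D k) (XX D l k) σ g) {J : Set (Fin l)}
    (hJ : ∀ a ∈ RootsJ cs hp.isCartan J, g a ∈ RootsJ cs hp.isCartan J)
    {m : ↥(D.group k)} (hm : m ∈ LJ cs hp.isCartan (TT D k) (XX D l k) J) :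
    ∃ y ∈ LJ cs hp.isCartan (TT D k) (XX D l k) J, m = y⁻¹ * σ y := by
  unfold LJ at hm ⊢
  set S := RootsJ cs hp.isCartan J with hS
  have hSr : ∀ a ∈ S, IsRoot cs hp.isCartan a := fun a ha => ha.1
  have hTn : TT D k ≤ normalizer (RGD.Sup (XX D l k) S : Set ↥(D.group k)) := by
    have h1 := (tow hp cs hk r (k := k)).T_le_normalizer hSr
    rwa [TL_eq hp hk, XL_eq hp hk] at h1
  obtain ⟨t, ht, x, hx, rfl⟩ := Cfsg.Agent.H18.Carter.mul_mem_of_norm' hTn hm
  have hx' : t * x * t⁻¹ ∈ RGD.Sup (XX D l k) S := (mem_normalizer_iff.1 (hTn ht) x).1 hx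
  obtain ⟨u, hu, hut⟩ := H696.GmnToral.torus_lang hp cs hk hZ he hσ F ht
  have hx2 : u * (t * x * t⁻¹) * u⁻¹ ∈ RGD.Sup (XX D l k) S := (mem_normalizer_iff.1 (hTn hu) _).1 hx'
  obtain ⟨z, hz, hzx⟩ := lang_fr hp cs he hσ F (S := S) hSr hJ hx2
  refine ⟨z * u, mul_mem (mem_sup_right hz) (mem_sup_left hu), ?_⟩
  rw [map_mul]
  calc t * x = u⁻¹ * (u * (t * x * t⁻¹) * u⁻¹) * (u * t) := by group
    _ = u⁻¹ * (z⁻¹ * σ z) * (u * t) := by rw [← hzx]
    _ = u⁻¹ * (z⁻¹ * σ z) * (u * (u⁻¹ * σ u)) := by rw [← hut]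
    _ = (z * u)⁻¹ * (σ z * σ u) := by group

end K

end Cfsg.Agent.H798.RG
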