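import Cfsg.Agent.H798.RG.LongRoot

/-!
# S3509, box F4: weak forms (helper798)

* `exists_y_weak`, `lrg_weak`, `lrg_weak_neg` : only `z⁻¹ σ(z) = n`, `Fr (conj n * σ) θ`, `θ β = β`, `β` long;
* `lrg_of` : the form with `IsRoot β` and `∃ w, β = w a₀`.
-/

set_option autoImplicit false
set_option linter.unusedSectionVars false
set_option maxHeartbeats 400000

namespace Cfsg.Agent.H798.RG

open CoxeterSystem Subgroup Cfsg Cfsg.Lie Cfsg.Lie.ChevalleyDatum
open Cfsg.Agent.ChevalleyStructure Cfsg.Agent.ChevalleyStructure.Elts Cfsg.Agent.ChevalleyStructure.CoxeterGeom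
  Cfsg.Agent.ChevalleyStructure.CoxeterGeomTypes Cfsg.Agent.ChevalleyStructure.NPerm
open Cfsg.Agent.Tits.Roots Cfsg.Agent.Tits.Core
open Cfsg.Agent.Nodes Cfsg.Agent.Nodes.Reps Cfsg.Agent.Nodes.BNOf
  Cfsg.Agent.Nodes.RGDChev Cfsg.Agent.Nodes.Bruhat Cfsg.Agent.Nodes.StabComb Cfsg.Agent.Nodes.LeviDec
open Cfsg.Agent.KFacts.RgdField Cfsg.Agent.KFacts.RgdChevCoord
open Cfsg.Agent.BpExc Cfsg.Agent.BpExc.TorCent Cfsg.Agent.BpExc.TorChev Cfsg.Agent.BpExc.Tow
open Cfsg.Agent.BpExc.TowChev Cfsg.Agent.BpExc.Fr Cfsg.Agent.BpExc.LangFr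
open Cfsg.Agent.H469.Exc Cfsg.Agent.H316.U6 Cfsg.Agent.H169.RG

universe u v

section Gen

variable {D : ChevalleyDatum} {l : ℕ} {M : CoxeterMatrix (Fin l)} (hp : IsType D l M)
  {W : Type v} [Group W] [Finite W] (cs : CoxeterSystem M W) {k : Type u} [Field k] [IsAlgClosed k] (hk : LocFin k)
  {r : ℕ} [Fact r.Prime] [CharP k r]

include hk in
/-- an inner frame automorphism is given by an element over `W` -/
theorem exists_rp_of_fr {σ : MulAut ↥(D.group k)} {g θ : (Fin l → ℤ) ≃+ (Fin l → ℤ)}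
    (F : Fr cs hp.isCartan (TT D k) (XX D l k) σ g) {n : ↥(D.group k)}
    (F' : Fr cs hp.isCartan (TT D k) (XX D l k) (MulAut.conj n * σ) θ) :
    ∃ w : W, Rp cs (nsysTT hp cs hk r) w n ∧ ∀ v, θ v = rep cs hp.isCartan w (g v) := by
  have H := tow (k := k) hp cs hk r
  have hTL := TL_eq (k := k) hp hk
  have hXL := XL_eq (k := k) hp hk
  have hG := GG_eq_top (k := k) hp cs hk
  have hsep : ∀ a, IsRoot cs hp.isCartan a → ∃ s ∈ TL (Tj hp (k := k)), ∀ u ∈ XL (Xj hp (k := k)) a,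
      u * s = s * u → u = 1 := by
    rw [hTL, hXL]
    exact fun a ha => BpExc.NChev.sep hp cs hk r ha
  have Fn := F'.mul F.inv
  have e1 : MulAut.conj n * σ * σ⁻¹ = MulAut.conj n := by group
  rw [e1] at Fn
  obtain ⟨w, hw⟩ := BpExc.NChev.rp_of_normalizer H hG hsep (y := n) (fun x => by
    rw [hTL]
    exact Fn.tor x)
  have hw' : Rp cs (nsysTT hp cs hk r) w n := by
    have key : ∀ (T : Subgroup ↥(D.group k)) (h1 : NSys M T (nc hp k)) (h2 : T = TT D k), Rp cs h1 w n →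
        Rp cs (nsysTT hp cs hk r) w n := by
      intro T h1 h2 h3
      subst h2
      exact h3
    exact key _ _ hTL hw
  have Fw : Fr cs hp.isCartan (TT D k) (XX D l k) (MulAut.conj n) (repAut cs hp.isCartan w) := by
    have h1 := Fr.conj H hw
    rwa [hTL, hXL] at h1
  have hθ : θ = g.trans (repAut cs hp.isCartan w) := fr_unique hp cs hk r F' (Fw.mul F)
  refine ⟨w, hw', fun v => ?_⟩
  rw [hθ]
  rfl

end Gen

section Form

variable {D : ChevalleyDatum} {l : ℕ} {M : CoxeterMatrix (Fin l)} {hp : IsType D l M} {r q : ℕ} [hr : Fact r.Prime]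
  {K₀ : Type v} [Group K₀] (m : MData hp r q K₀)

/-- **The conjugating element, weak form.** -/
theorem exists_y_weak {z n : ↥(D.group (KK r))} (hn : z⁻¹ * m.σ z = n) {θ : (Fin l → ℤ) ≃+ (Fin l → ℤ)}
    (F : Fr M.toCoxeterSystem hp.isCartan (TT D (KK r)) (XX D l (KK r)) (MulAut.conj n * m.σ) θ) {β : Fin l → ℤ}
    (hβ : ∃ w : M.Group, β = rep M.toCoxeterSystem hp.isCartan w (vec D l (D.nroots - 1))) (hθ : θ β = β) :
    ∃ y : ↥(D.group (KK r)), m.σ y = y ∧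
      cjS y (T0 m) = cjS z (XX D l (KK r) β ⊓ fixedSubgroup (MulAut.conj n * m.σ)) ∧
      cjS y (T0' m) = cjS z (XX D l (KK r) (-β) ⊓ fixedSubgroup (MulAut.conj n * m.σ)) := by
  have := finite_W hp M.toCoxeterSystem
  obtain ⟨w', hβ⟩ := hβ
  obtain ⟨w, hw, hwθ⟩ := exists_rp_of_fr hp M.toCoxeterSystem (locFin r) m.fr F
  obtain ⟨y, hy, h⟩ := exists_y_gen hp M.toCoxeterSystem (locFin r) m.he m.frob m.fr m.top hn hw (w' := w') (by
    rw [← hβ, ← hwθ]; exact hθ)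
  have hconj : ∀ x, (MulAut.conj n * m.σ) (z⁻¹ * x * z) = z⁻¹ * m.σ x * z := by
    intro x
    rw [MulAut.mul_apply, MulAut.conj_apply, ← hn, map_mul, map_mul, map_inv]
    group
  have hfix : ∀ x, (m.σ (y⁻¹ * x * y) = y⁻¹ * x * y ↔
      (MulAut.conj n * m.σ) (z⁻¹ * x * z) = z⁻¹ * x * z) := by
    intro x
    rw [hconj, map_mul, map_mul, map_inv, hy]
    exact ⟨fun h => by rw [mul_left_cancel (mul_right_cancel h)], fun h => by
      rw [mul_left_cancel (mul_right_cancel h)]⟩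
  refine ⟨y, hy, ?_, ?_⟩
  · ext x
    rw [mem_cjS, mem_cjS, T0, Subgroup.mem_inf, Subgroup.mem_inf, h _ (Or.inl rfl), ← hβ]
    exact and_congr Iff.rfl (hfix x)
  · ext x
    rw [mem_cjS, mem_cjS, T0', Subgroup.mem_inf, Subgroup.mem_inf, h _ (Or.inr rfl), map_neg, ← hβ]
    exact and_congr Iff.rfl (hfix x)

/-- **F4, weak form.** -/
theorem lrg_weak {z n : ↥(D.group (KK r))} (hn : z⁻¹ * m.σ z = n) {θ : (Fin l → ℤ) ≃+ (Fin l → ℤ)}
    (F : Fr M.toCoxeterSystem hp.isCartan (TT D (KK r)) (XX D l (KK r)) (MulAut.conj n * m.σ) θ) {β : Fin l → ℤ}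
    (hβ : ∃ w : M.Group, β = rep M.toCoxeterSystem hp.isCartan w (vec D l (D.nroots - 1))) (hθ : θ β = β) :
    LRG m (cjS z (XX D l (KK r) β ⊓ fixedSubgroup (MulAut.conj n * m.σ))) := by
  obtain ⟨y, hy, h, -⟩ := exists_y_weak m hn F hβ hθ
  exact ⟨y, hy, h.symm⟩

/-- long roots are closed under negation -/
theorem long_neg {β : Fin l → ℤ}
    (hβ : ∃ w : M.Group, β = rep M.toCoxeterSystem hp.isCartan w (vec D l (D.nroots - 1))) :
    ∃ w : M.Group, -β = rep M.toCoxeterSystem hp.isCartan w (vec D l (D.nroots - 1)) := by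
  obtain ⟨w', rfl⟩ := hβ
  obtain ⟨w0, hw0⟩ := exists_neg_top (hp := hp)
  exact ⟨w' * w0, by rw [rep_mul_apply, hw0, map_neg]⟩

theorem lrg_weak_neg {z n : ↥(D.group (KK r))} (hn : z⁻¹ * m.σ z = n) {θ : (Fin l → ℤ) ≃+ (Fin l → ℤ)}
    (F : Fr M.toCoxeterSystem hp.isCartan (TT D (KK r)) (XX D l (KK r)) (MulAut.conj n * m.σ) θ) {β : Fin l → ℤ}
    (hβ : ∃ w : M.Group, β = rep M.toCoxeterSystem hp.isCartan w (vec D l (D.nroots - 1))) (hθ : θ β = β) :
    LRG m (cjS z (XX D l (KK r) (-β) ⊓ fixedSubgroup (MulAut.conj n * m.σ))) :=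
  lrg_weak m hn F (long_neg (hp := hp) hβ) (by rw [map_neg, hθ])

/-- **F4**, the form of helper922. -/
theorem lrg_of {s : ↥(D.group (KK r))} (f : TorForm m s) {β : Fin l → ℤ} (_hb : IsRoot M.toCoxeterSystem hp.isCartan β)
    (hlong : ∃ w : M.Group, β = rep M.toCoxeterSystem hp.isCartan w (vec D l (D.nroots - 1))) (hth : f.θ β = β) :
    LRG m (cjS f.z (XX D l (KK r) β ⊓ fixedSubgroup f.α)) := by
  obtain ⟨w', h⟩ := hlong
  exact lrg f h hth

end Form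

end Cfsg.Agent.H798.RG
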