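import Cfsg.Agent.H798.RG.TopRoot
import Cfsg.Agent.H169.RG.LRG
import Cfsg.Agent.S1077

/-!
# S3509, box F4: the `θ`-fixed long roots give long root groups of `Y^σ` (helper798)

`m : MData hp r q K₀`, `f : TorForm m s`, `β = w' a₀` with `θ β = β`.

* `exists_y` : an element `y ∈ Y^σ` conjugating `(T0 m, T0' m)` to `(z X_β^α z⁻¹, z X_{-β}^α z⁻¹)`;
* `lrg`, `lrg'` : both groups are long root groups of `Y^σ`;
* `card_T0` : `|T0 m| = q`.
-/

set_option autoImplicit false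
set_option linter.unusedSectionVars false
set_option maxHeartbeats 400000

namespace Cfsg.Agent.H798.RG

open CoxeterSystem Subgroup Cfsg Cfsg.Lie Cfsg.Lie.ChevalleyDatum
open Cfsg.Agent.ChevalleyStructure Cfsg.Agent.ChevalleyStructure.Elts Cfsg.Agent.ChevalleyStructure.CoxeterGeom
  Cfsg.Agent.ChevalleyStructure.CoxeterGeomTypes Cfsg.Agent.ChevalleyStructure.NPerm
open Cfsg.Agent.Tits.Roots Cfsg.Agent.Tits.Core
open Cfsg.Agent.Nodes Cfsg.Agent.Nodes.Reps Cfsg.Agent.Nodes.BNOf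
  Cfsg.Agent.Nodes.RGDChev Cfsg.Agent.Nodes.Bruhat Cfsg.Agent.Nodes.StabComb Cfsg.Agent.Nodes.LeviDec
open Cfsg.Agent.KFacts.RgdField Cfsg.Agent.KFacts.RgdChevCoord
open Cfsg.Agent.BpExc Cfsg.Agent.BpExc.TorCent Cfsg.Agent.BpExc.TorChev Cfsg.Agent.BpExc.Tow
open Cfsg.Agent.BpExc.TowChev Cfsg.Agent.BpExc.Fr Cfsg.Agent.BpExc.LangFr
open Cfsg.Agent.H469.Exc Cfsg.Agent.H316.U6 Cfsg.Agent.H169.RG

universe u v

section Gen

variable {D : ChevalleyDatum} {l : ℕ} {M : CoxeterMatrix (Fin l)} (hp : IsType D l M)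
  {W : Type v} [Group W] [Finite W] (cs : CoxeterSystem M W) {k : Type u} [Field k] [IsAlgClosed k] (hk : LocFin k)
  {r : ℕ} [Fact r.Prime] [CharP k r]

include hk in
/-- **The conjugating element, general version.** `n = z⁻¹ σ(z)` over `w`, `w g` fixes `w' a₀`. -/
theorem exists_y_gen {σ : MulAut ↥(D.group k)} {g : (Fin l → ℤ) ≃+ (Fin l → ℤ)} {e : ℕ} (he : 0 < e)
    (hσ : IsFrob r e σ) (F : Fr cs hp.isCartan (TT D k) (XX D l k) σ g)
    (htop : g (vec D l (D.nroots - 1)) = vec D l (D.nroots - 1)) {z n : ↥(D.group k)} (hn : z⁻¹ * σ z = n) {w w' : W}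
    (hw : Rp cs (nsysTT hp cs hk r) w n)
    (hfix : rep cs hp.isCartan w (g (rep cs hp.isCartan w' (vec D l (D.nroots - 1)))) =
      rep cs hp.isCartan w' (vec D l (D.nroots - 1))) :
    ∃ y : ↥(D.group k), σ y = y ∧ ∀ b, (b = vec D l (D.nroots - 1) ∨ b = -vec D l (D.nroots - 1)) → ∀ x,
      (y⁻¹ * x * y ∈ XX D l k b ↔ z⁻¹ * x * z ∈ XX D l k (rep cs hp.isCartan w' b)) := by
  have H := tow (k := k) hp cs hk r
  have hTL := TL_eq (k := k) hp hk
  have hXL := XL_eq (k := k) hp hk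
  -- passage between the two systems of representatives
  have tr : ∀ {w : W} {y : ↥(D.group k)}, Rp cs (nsysTT hp cs hk r) w y ↔ Rp cs H.nsys w y := by
    intro w y
    have key : ∀ (T : Subgroup ↥(D.group k)) (h1 : NSys M T (nc hp k)) (h2 : TT D k = T),
        Rp cs (nsysTT hp cs hk r) w y ↔ Rp cs h1 w y := by
      intro T h1 h2
      subst h2
      exact Iff.rfl
    exact key _ H.nsys hTL.symm
  have FR : ∀ {w : W} {y : ↥(D.group k)}, Rp cs H.nsys w y →
      Fr cs hp.isCartan (TT D k) (XX D l k) (MulAut.conj y) (repAut cs hp.isCartan w) := by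
    intro w y h
    have h1 := Fr.conj H h
    rwa [hTL, hXL] at h1
  obtain ⟨n', -, hn'⟩ := H.exists_rp w'
  set a0 := vec D l (D.nroots - 1) with ha0
  have hG := GG_eq_top (k := k) hp cs hk
  have hsep : ∀ a, IsRoot cs hp.isCartan a → ∃ s ∈ TL (Tj hp (k := k)), ∀ u ∈ XL (Xj hp (k := k)) a,
      u * s = s * u → u = 1 := by
    rw [hTL, hXL]
    exact fun a ha => BpExc.NChev.sep hp cs hk r ha
  -- `σ(n')`
  have F' : Fr cs hp.isCartan (TL (Tj hp (k := k))) (XL (Xj hp (k := k))) σ g := by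
    rw [hTL, hXL]; exact F
  obtain ⟨w1, hw1⟩ := BpExc.NChev.rp_fr H hG hsep F' hn'
  have e1 : σ * (MulAut.conj n' * σ⁻¹) = MulAut.conj (σ n') := by
    ext x
    simp only [MulAut.mul_apply, MulAut.conj_apply, map_mul, map_inv, MulAut.apply_inv_self]
  have F1 := F.mul ((FR hn').mul F.inv)
  rw [e1] at F1
  have h1 := fr_unique hp cs hk r (FR hw1) F1
  have h2 : rep cs hp.isCartan w1 a0 = g (rep cs hp.isCartan w' a0) := by
    have h3 := congrArg (fun θ : (Fin l → ℤ) ≃+ (Fin l → ℤ) => θ a0) h1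
    have h4 : g.symm a0 = a0 := by rw [AddEquiv.symm_apply_eq, htop]
    simp only [repAut_apply, AddEquiv.trans_apply, h4] at h3
    exact h3
  -- the element `m' = n'⁻¹ n σ(n')`
  have hm : Rp cs H.nsys (w'⁻¹ * w * w1) (n'⁻¹ * n * σ n') := (hn'.inv.mul (tr.1 hw)).mul hw1
  have hst : rep cs hp.isCartan (w'⁻¹ * w * w1) a0 = a0 := by
    rw [rep_mul_apply, rep_mul_apply, h2, hfix, rep_inv_apply]
  have hmL := rp_LJ hp cs hk (mem_WJ_of_rep (dom_top hp) hst) hm
  have hZ : Subgroup.center ↥(D.group k) = ⊥ := Cfsg.Agent.S1077.center_group_eq_bot hp.inList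
  obtain ⟨p, hpL, hpm⟩ := lang_LJ hp cs hk hZ he hσ F
    (J := orth cs hp.isCartan a0) (fun a ha => stab_RootsJ hp cs F.root htop ha) hmL
  have hσz : σ z = z * n := by rw [← hn]; group
  have hσp : σ p = p * (n'⁻¹ * n * σ n') := by rw [hpm]; group
  refine ⟨z * n' * p⁻¹, ?_, fun b hb x => ?_⟩
  · rw [map_mul, map_mul, map_inv, hσz, hσp]
    group
  · have e2 : (z * n' * p⁻¹)⁻¹ * x * (z * n' * p⁻¹) = p * (n'⁻¹ * (z⁻¹ * x * z) * n') * p⁻¹ := by group
    rw [e2, LJ_conj hp cs r hk hb hpL]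
    have hbr : IsRoot cs hp.isCartan b := by
      rcases hb with rfl | rfl
      · exact isRoot_top hp cs
      · exact (isRoot_top hp cs).neg
    rw [← (FR hn').map b hbr, MulAut.conj_apply, repAut_apply]
    have e3 : n' * (n'⁻¹ * (z⁻¹ * x * z) * n') * n'⁻¹ = z⁻¹ * x * z := by group
    rw [e3]

end Gen

section Form

variable {D : ChevalleyDatum} {l : ℕ} {M : CoxeterMatrix (Fin l)} {hp : IsType D l M} {r q : ℕ} [hr : Fact r.Prime]
  {K₀ : Type v} [Group K₀] {m : MData hp r q K₀} {s : ↥(D.group (KK r))}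

/-- **The conjugating element.** `β = w' a₀`, `θ β = β`. -/
theorem exists_y (f : TorForm m s) {w' : M.Group} {β : Fin l → ℤ}
    (hβ : β = rep M.toCoxeterSystem hp.isCartan w' (vec D l (D.nroots - 1))) (hθ : f.θ β = β) :
    ∃ y : ↥(D.group (KK r)), m.σ y = y ∧ cjS y (T0 m) = cjS f.z (XX D l (KK r) β ⊓ fixedSubgroup f.α) ∧
      cjS y (T0' m) = cjS f.z (XX D l (KK r) (-β) ⊓ fixedSubgroup f.α) := by
  have := finite_W hp M.toCoxeterSystem
  obtain ⟨y, hy, h⟩ := exists_y_gen hp M.toCoxeterSystem (locFin r) m.he m.frob m.fr m.top f.lang f.rp (w' := w') (by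
    rw [← hβ, ← f.hθ]; exact hθ)
  refine ⟨y, hy, ?_, ?_⟩
  · ext x
    rw [mem_cjS, mem_cjS, T0, Subgroup.mem_inf, Subgroup.mem_inf, h _ (Or.inl rfl), ← hβ]
    refine and_congr Iff.rfl ?_
    change m.σ (y⁻¹ * x * y) = y⁻¹ * x * y ↔ f.α (f.z⁻¹ * x * f.z) = f.z⁻¹ * x * f.z
    rw [f.fix_iff, map_mul, map_mul, map_inv, hy]
    exact ⟨fun h => mul_left_cancel (mul_right_cancel h), fun h => by rw [h]⟩
  · ext x
    rw [mem_cjS, mem_cjS, T0', Subgroup.mem_inf, Subgroup.mem_inf, h _ (Or.inr rfl), map_neg, ← hβ]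
    refine and_congr Iff.rfl ?_
    change m.σ (y⁻¹ * x * y) = y⁻¹ * x * y ↔ f.α (f.z⁻¹ * x * f.z) = f.z⁻¹ * x * f.z
    rw [f.fix_iff, map_mul, map_mul, map_inv, hy]
    exact ⟨fun h => mul_left_cancel (mul_right_cancel h), fun h => by rw [h]⟩

/-- **F4.** The `α`-fixed points of a `θ`-fixed long root group are a long root group of `Y^σ`. -/
theorem lrg (f : TorForm m s) {w' : M.Group} {β : Fin l → ℤ}
    (hβ : β = rep M.toCoxeterSystem hp.isCartan w' (vec D l (D.nroots - 1))) (hθ : f.θ β = β) :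
    LRG m (cjS f.z (XX D l (KK r) β ⊓ fixedSubgroup f.α)) := by
  obtain ⟨y, hy, h, -⟩ := exists_y f hβ hθ
  exact ⟨y, hy, h.symm⟩

/-- the element version -/
theorem lr_of_mem (f : TorForm m s) {w' : M.Group} {β : Fin l → ℤ}
    (hβ : β = rep M.toCoxeterSystem hp.isCartan w' (vec D l (D.nroots - 1))) (hθ : f.θ β = β) {x : ↥(D.group (KK r))}
    (hx : x ∈ XX D l (KK r) β) (hα : f.α x = x) (hx1 : x ≠ 1) : LR m (f.z * x * f.z⁻¹) := by
  refine ⟨fun h => hx1 ?_, _, lrg f hβ hθ, ?_⟩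
  · have e : x = f.z⁻¹ * (f.z * x * f.z⁻¹) * f.z := by group
    rw [e, h]
    group
  · rw [mem_cjS]
    have e : f.z⁻¹ * (f.z * x * f.z⁻¹) * f.z = x := by group
    rw [e]
    exact ⟨hx, hα⟩

/-- the opposite of the highest root is a conjugate of the highest root -/
theorem exists_neg_top : ∃ w : M.Group, rep M.toCoxeterSystem hp.isCartan w (vec D l (D.nroots - 1)) =
    -vec D l (D.nroots - 1) := by
  obtain ⟨w, i, h⟩ := isRoot_top hp M.toCoxeterSystem
  refine ⟨w * M.toCoxeterSystem.simple i * w⁻¹, ?_⟩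
  rw [h, rep_mul_apply, rep_inv_apply, rep_mul_apply, rep_simple_sr, map_neg]

/-- the opposite long root group -/
theorem lrg_neg (f : TorForm m s) {w' : M.Group} {β : Fin l → ℤ}
    (hβ : β = rep M.toCoxeterSystem hp.isCartan w' (vec D l (D.nroots - 1))) (hθ : f.θ β = β) :
    LRG m (cjS f.z (XX D l (KK r) (-β) ⊓ fixedSubgroup f.α)) := by
  obtain ⟨w0, hw0⟩ := exists_neg_top (hp := hp)
  refine lrg f (w' := w' * w0) ?_ (by rw [map_neg, hθ])
  rw [rep_mul_apply, hw0, map_neg, hβ]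

end Form

end Cfsg.Agent.H798.RG
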