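import Cfsg.Agent.H798.RG.Par
import Cfsg.Agent.H378.TorFin
import Cfsg.Agent.H28.GenF.Untw
import Cfsg.Agent.KFacts.RgdFiltChev

/-!
# Rational elements commuting with a semisimple element (helper798, S3509)

* `exists_neg` : `s ∈ L_J(k)` with `σ s = s`, commuting with some `v ≠ 1` in `V_J⁻(k)`, commutes with some `v ≠ 1` in
  `V_J⁻(k)` with `σ v = v`.
-/

set_option autoImplicit false
set_option linter.unusedSectionVars false
set_option maxHeartbeats 400000

namespace Cfsg.Agent.H798.RG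

open CoxeterSystem Subgroup Cfsg Cfsg.Lie Cfsg.Lie.ChevalleyDatum
open Cfsg.Agent.ChevalleyStructure Cfsg.Agent.ChevalleyStructure.Elts Cfsg.Agent.ChevalleyStructure.CoxeterGeom
  Cfsg.Agent.ChevalleyStructure.CoxeterGeomTypes Cfsg.Agent.ChevalleyStructure.NPerm
open Cfsg.Agent.Tits.Roots Cfsg.Agent.Tits.Core Cfsg.Agent.Nodes Cfsg.Agent.Nodes.Reps Cfsg.Agent.Nodes.BNOf
  Cfsg.Agent.Nodes.RGDChev Cfsg.Agent.Nodes.Bruhat Cfsg.Agent.Nodes.StabComb Cfsg.Agent.Nodes.LeviDec
open Cfsg.Agent.KFacts.RgdBorelTits Cfsg.Agent.KFacts.RgdFilt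
open Cfsg.Agent.KFacts.RgdField Cfsg.Agent.KFacts.RgdChevCoord
open Cfsg.Agent.BpExc Cfsg.Agent.BpExc.TorCent Cfsg.Agent.BpExc.TorChev Cfsg.Agent.BpExc.Tow
open Cfsg.Agent.BpExc.TowChev Cfsg.Agent.BpExc.Fr Cfsg.Agent.BpExc.LangFr Cfsg.Agent.BpExc.FamUntw
open Cfsg.Agent.GpExc.Field (glMap emb coe_emb glMap_xG emb_injective coe_glMap)
open Cfsg.Agent.H129.TorusChar
open Cfsg.Agent.H798.OZ
open scoped commutatorElement

universe u v

/-! ### the level -/

open Classical in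
/-- the level of a root with respect to `J` -/
noncomputable def lv {l : ℕ} (J : Set (Fin l)) : (Fin l → ℤ) →+ ℤ where
  toFun x := ∑ i, if i ∈ J then 0 else x i
  map_zero' := by simp
  map_add' x y := by
    rw [← Finset.sum_add_distrib]
    refine Finset.sum_congr rfl fun i _ => ?_
    split_ifs
    · rw [add_zero]
    · rw [Pi.add_apply]

open Classical in
theorem lv_apply {l : ℕ} (J : Set (Fin l)) (x : Fin l → ℤ) : lv J x = ∑ i, if i ∈ J then 0 else x i := rfl

variable {D : ChevalleyDatum} {l : ℕ} {M : CoxeterMatrix (Fin l)} (hp : IsType D l M)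
  {W : Type v} [Group W] (cs : CoxeterSystem M W)

theorem lv_pos {J : Set (Fin l)} {a : Fin l → ℤ} (ha : 0 ≤ a) (h : ∃ i, i ∉ J ∧ 0 < a i) : 0 < lv J a := by
  classical
  rw [lv_apply]
  obtain ⟨i, hi, h0⟩ := h
  refine Finset.sum_pos' (fun j _ => ?_) ⟨i, Finset.mem_univ i, ?_⟩
  · split_ifs
    · exact le_rfl
    · exact ha j
  · rw [if_neg hi]; exact h0

theorem lv_neg {J : Set (Fin l)} {a : Fin l → ℤ} (ha : a ∈ NotNJ cs hp.isCartan J) : lv J a < 0 := by
  have h1 := lv_pos ha.2.1 ha.2.2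
  rw [map_neg] at h1
  linarith

theorem lv_zero {J : Set (Fin l)} {a : Fin l → ℤ} (ha : a ∈ RootsJ cs hp.isCartan J) : lv J a = 0 := by
  classical
  rw [lv_apply]
  refine Finset.sum_eq_zero fun i _ => ?_
  split_ifs with h
  · rfl
  · exact ha.2 i h

theorem ib_NotNJ {J : Set (Fin l)} {a b z : Fin l → ℤ} (ha : a ∈ NotNJ cs hp.isCartan J)
    (hb : b ∈ NotNJ cs hp.isCartan J) (hz : IB cs hp.isCartan a b z) :
    z ∈ NotNJ cs hp.isCartan J ∧ lv J z < lv J a := by
  obtain ⟨hr, i, j, hi, hj, rfl⟩ := hz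
  have ha' : 0 ≤ -a := ha.2.1
  have hb' : 0 ≤ -b := hb.2.1
  obtain ⟨i0, hi0, h0⟩ := ha.2.2
  refine ⟨⟨hr.neg, fun m => ?_, i0, hi0, ?_⟩, ?_⟩
  · have h1 := ha' m
    have h2 := hb' m
    simp only [Pi.zero_apply, Pi.neg_apply, Pi.add_apply, Pi.smul_apply, smul_eq_mul] at h1 h2 ⊢
    nlinarith
  · have h2 := hb' i0
    simp only [Pi.zero_apply, Pi.neg_apply, Pi.add_apply, Pi.smul_apply, smul_eq_mul] at h0 h2 ⊢
    nlinarith
  · have h1 := lv_neg hp cs ha
    have h2 := lv_neg hp cs hb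
    rw [map_add, map_zsmul, map_zsmul, smul_eq_mul, smul_eq_mul]
    nlinarith

/-! ### the commutator formula -/

theorem intComm_XX {k : Type u} [Field k] : IntComm cs hp.isCartan (XX D l k) := by
  intro x y hx hy hxy hxy' a ha b hb
  have h1 := KFacts.RgdFiltChev.intComm_GL hp cs (K := k) x y hx hy hxy hxy' a.1 ha b.1 hb
  have h3 : FS (XX D l k) {z | IB cs hp.isCartan x y z} = (FS (XV D l k) {z | IB cs hp.isCartan x y z}).subgroupOf (D.group k) := by
    unfold FS
    rw [Nodes.RGDLib.iSup_subgroupOf]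
    rintro ⟨z, hz⟩
    exact XV_le_group hp z
  rw [h3, Subgroup.mem_subgroupOf]
  exact h1

section K

variable {k : Type u} [Field k]

/-- elements of a root subgroup -/
theorem exists_xc {a : Fin l → ℤ} (ha : IsRoot cs hp.isCartan a) {x : ↥(D.group k)} (hx : x ∈ XX D l k a) :
    ∃ m < D.nroots, vec D l m = a ∧ ∃ c, x = xc hp (vec D l m) c := by
  obtain ⟨m, hm, rfl⟩ := (isRoot_iff hp cs a).1 ha
  obtain ⟨c, hc'⟩ := (LangThm.mem_XX_vec hp hm).1 hx
  exact ⟨m, hm, rfl, c, Subtype.ext (by rw [coe_xc hp hm, hc'])⟩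

theorem comm_of_cX {t : ↥(D.group k)} (ht : t ∈ TT D k) {a : Fin l → ℤ} (ha : IsRoot cs hp.isCartan a)
    (h1 : cX hp t a = 1) {x : ↥(D.group k)} (hx : x ∈ XX D l k a) : t * x = x * t := by
  obtain ⟨m, hm, rfl, c, rfl⟩ := exists_xc hp cs ha hx
  have h3 := (act hp hm ht).2 c
  rw [cX_vec hp ht hm] at h1
  rw [h1, one_mul] at h3
  exact mul_inv_eq_iff_eq_mul.1 h3

/-- the level torus commutes with `L_J` -/
theorem comm_LJ {J : Set (Fin l)} {t : ↥(D.group k)} (ht : t ∈ TT D k) (h : ∀ a ∈ RootsJ cs hp.isCartan J, cX hp t a = 1)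
    {s : ↥(D.group k)} (hs : s ∈ LJ cs hp.isCartan (TT D k) (XX D l k) J) : t * s = s * t := by
  have h1 : LJ cs hp.isCartan (TT D k) (XX D l k) J ≤ centralizer {t} := by
    refine sup_le (fun x hx => ?_) (RGD.Sup_le fun a ha x hx => ?_)
    · exact mem_centralizer_singleton_iff.2 (TT_comm hp _ hx _ ht)
    · exact mem_centralizer_singleton_iff.2 (comm_of_cX hp cs ht ha.1 (h a ha) hx).symm
  exact (mem_centralizer_singleton_iff.1 (h1 hs)).symm

variable [IsAlgClosed k] (hk : LocFin k) (r : ℕ) [Fact r.Prime] [CharP k r] [Finite W]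

/-- the scaling element -/
theorem exists_scale {d : ℕ} {B : Fin l → Fin l → ℤ} (hB : InvC D l d B) (hd : d ≠ 0) {J : Set (Fin l)} {a : Fin l → ℤ}
    (ha : a ∈ NotNJ cs hp.isCartan J) {c : k} (hc : c ≠ 0) :
    ∃ t ∈ TT D k, (∀ b ∈ RootsJ cs hp.isCartan J, cX hp t b = 1) ∧ cX hp t a = c⁻¹ := by
  have h1 := lv_neg hp cs ha
  obtain ⟨z, hz⟩ := IsAlgClosed.exists_pow_nat_eq c (n := (-lv J a).toNat) (by omega)
  have hz0 : z ≠ 0 := by
    rintro rfl
    rw [zero_pow (by omega)] at hz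
    exact hc hz.symm
  have hMC : IsMC (fun x : Fin l → ℤ => z ^ lv J x) :=
    ⟨by show z ^ lv J 0 = 1; rw [map_zero, zpow_zero], fun x y => by
      show z ^ lv J (x + y) = z ^ lv J x * z ^ lv J y
      rw [map_add, zpow_add₀ hz0]⟩
  obtain ⟨t, ht, hcX⟩ := exists_cX hp hB hd hMC (fun _ => IsAlgClosed.exists_pow_nat_eq _ (Nat.pos_of_ne_zero hd))
  refine ⟨t, ht, fun b hb => ?_, ?_⟩
  · rw [hcX]
    show z ^ lv J b = 1
    rw [lv_zero hp cs hb, zpow_zero]
  · rw [hcX]
    show z ^ lv J a = c⁻¹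
    have h2 : lv J a = -((-lv J a).toNat : ℤ) := by omega
    rw [h2, zpow_neg, zpow_natCast, hz]

variable [PerfectRing k r]

theorem phi_Sup (n : ℕ) {S : Set (Fin l → ℤ)} (hS : ∀ a ∈ S, IsRoot cs hp.isCartan a) {x : ↥(D.group k)}
    (hx : x ∈ RGD.Sup (XX D l k) S) : phi D k r n x ∈ RGD.Sup (XX D l k) S := by
  have h1 : RGD.Sup (XX D l k) S ≤ (RGD.Sup (XX D l k) S).comap (phi D k r n).toMonoidHom := by
    refine RGD.Sup_le fun a ha y hy => ?_
    obtain ⟨m, hm, rfl, c, rfl⟩ := exists_xc hp cs (hS a ha) hy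
    show phi D k r n (xc hp (vec D l m) c) ∈ RGD.Sup (XX D l k) S
    rw [H378.TorChar.phi_xc hp r hm]
    refine RGD.le_Sup ha ?_
    rw [LangThm.mem_XX_vec hp hm]
    exact ⟨_, coe_xc hp hm _⟩
  exact h1 hx

include hk in
/-- **Descent.** -/
theorem exists_neg_aux {d : ℕ} {B : Fin l → Fin l → ℤ} (hB : InvC D l d B) (hd : d ≠ 0) {J : Set (Fin l)} {n : ℕ}
    {s : ↥(D.group k)} (hs : s ∈ LJ cs hp.isCartan (TT D k) (XX D l k) J) (hσ : phi D k r n s = s) (N : ℕ) :
    ∀ S : Set (Fin l → ℤ), S ⊆ NotNJ cs hp.isCartan J →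
      (∀ a ∈ S, ∀ b ∈ NotNJ cs hp.isCartan J, lv J b < lv J a → b ∈ S) → S.ncard = N →
      ∀ v ∈ RGD.Sup (XX D l k) S, v ≠ 1 → s * v = v * s →
        ∃ v' ∈ VNJ cs hp.isCartan (XX D l k) J, v' ≠ 1 ∧ s * v' = v' * s ∧ phi D k r n v' = v' := by
  have hfin0 : (NotNJ cs hp.isCartan J).Finite :=
    (RGD.finite_roots (cs := cs) (h := hp.isCartan)).subset fun a ha => by
      have := ha.1.neg
      rwa [neg_neg] at this
  have hroot : ∀ a ∈ NotNJ cs hp.isCartan J, IsRoot cs hp.isCartan a := fun a ha => by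
    have := ha.1.neg
    rwa [neg_neg] at this
  induction N with
  | zero =>
    intro S hS _ hN v hv hv1
    rw [Set.ncard_eq_zero (hfin0.subset hS)] at hN
    subst hN
    exfalso
    apply hv1
    have h1 : RGD.Sup (XX D l k) (∅ : Set (Fin l → ℤ)) ≤ ⊥ := RGD.Sup_le fun a ha => absurd ha (Set.notMem_empty a)
    exact mem_bot.1 (h1 hv)
  | succ N ih =>
    intro S hS hUC hN v hv hv1 hc
    have hfin := hfin0.subset hS
    have hne : S.Nonempty := by
      rw [Set.nonempty_iff_ne_empty]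
      rintro rfl
      rw [Set.ncard_empty] at hN
      omega
    obtain ⟨a, ha, hmax⟩ := Set.exists_max_image S (lv J) hfin hne
    have haN := hS ha
    have ha0 : a ≠ 0 := (hroot a haN).ne_zero
    set S' := S \ {a} with hS'
    have hS'S : S' ⊆ S := Set.sdiff_subset
    have hS'N : S' ⊆ NotNJ cs hp.isCartan J := hS'S.trans hS
    have hUC' : ∀ b ∈ S', ∀ c ∈ NotNJ cs hp.isCartan J, lv J c < lv J b → c ∈ S' := by
      intro b hb c hc hlt
      refine ⟨hUC b (hS'S hb) c hc hlt, ?_⟩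
      rintro rfl
      exact absurd (hmax b (hS'S hb)) (not_le.2 hlt)
    have hN' : S'.ncard = N := by
      rw [hS', Set.ncard_sdiff_singleton_of_mem ha, hN]
      rfl
    -- `X a` normalises `Sup X S'`
    have hkey : ∀ x ∈ XX D l k a, ∀ u ∈ RGD.Sup (XX D l k) S', x * u * x⁻¹ ∈ RGD.Sup (XX D l k) S' := by
      intro x hx
      have h1 : RGD.Sup (XX D l k) S' ≤ (RGD.Sup (XX D l k) S').comap (MulAut.conj x).toMonoidHom := by
        refine RGD.Sup_le fun b hb u hu => ?_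
        show x * u * x⁻¹ ∈ RGD.Sup (XX D l k) S'
        have h2 : x * u * x⁻¹ = ⁅x, u⁆ * u := by rw [commutatorElement_def]; group
        rw [h2]
        refine mul_mem ?_ (RGD.le_Sup hb hu)
        have hbN := hS'N hb
        have h3 := intComm_XX hp cs (k := k) a b (hroot a haN) (hroot b hbN) (fun h => hb.2 h.symm) (fun h => ?_) x hx u hu
        · refine (FS_le fun z hz => ?_ : FS (XX D l k) {z | IB cs hp.isCartan a b z} ≤ RGD.Sup (XX D l k) S') h3
          obtain ⟨h4, h5⟩ := ib_NotNJ hp cs haN hbN hz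
          refine RGD.le_Sup ⟨hUC a ha z h4 h5, ?_⟩
          rintro rfl
          exact lt_irrefl _ h5
        · have h4 : 0 ≤ -a := haN.2.1
          have h5 : 0 ≤ -b := hbN.2.1
          rw [h, neg_neg] at h4
          have h6 : b = 0 := le_antisymm (neg_nonneg.1 h5) h4
          rw [h6, neg_zero] at h
          exact ha0 h
      exact fun u hu => h1 hu
    have hnorm : XX D l k a ≤ normalizer (RGD.Sup (XX D l k) S' : Set ↥(D.group k)) := by
      intro x hx
      rw [mem_normalizer_iff]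
      intro u
      refine ⟨fun hu => hkey x hx u hu, fun hu => ?_⟩
      have h1 := hkey x⁻¹ (inv_mem hx) _ hu
      have e : x⁻¹ * (x * u * x⁻¹) * x⁻¹⁻¹ = u := by group
      rwa [e] at h1
    have hle : RGD.Sup (XX D l k) S ≤ XX D l k a ⊔ RGD.Sup (XX D l k) S' := by
      refine RGD.Sup_le fun b hb => ?_
      by_cases hba : b = a
      · rw [hba]; exact le_sup_left
      · exact (RGD.le_Sup (⟨hb, hba⟩ : b ∈ S')).trans le_sup_right
    obtain ⟨x, hx, y, hy, rfl⟩ := Cfsg.Agent.H18.Carter.mul_mem_of_norm' hnorm (hle hv)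
    obtain ⟨m, hm, hma, c, rfl⟩ := exists_xc hp cs (hroot a haN) hx
    by_cases hc0 : c = 0
    · have h1 : xc hp (vec D l m) c = (1 : ↥(D.group k)) := by
        rw [hc0]
        exact Subtype.ext (by rw [coe_xc hp hm, xG_zero, Subgroup.coe_one])
      rw [h1, one_mul] at hv1 hc
      exact ih S' hS'N hUC' hN' y hy hv1 hc
    obtain ⟨t, ht, ht1, ht2⟩ := exists_scale hp cs hB hd haN hc0
    have hts : t * s = s * t := comm_LJ hp cs ht ht1 hs
    set y' := t * y * t⁻¹ with hy'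
    have hTn : TT D k ≤ normalizer (RGD.Sup (XX D l k) S' : Set ↥(D.group k)) := by
      have h1 := (tow hp cs hk r (k := k)).T_le_normalizer (S := S') (fun b hb => hroot b (hS'N hb))
      rwa [TL_eq hp hk, XL_eq hp hk] at h1
    have hy'S : y' ∈ RGD.Sup (XX D l k) S' := (mem_normalizer_iff.1 (hTn ht) y).1 hy
    set v' := t * (xc hp (vec D l m) c * y) * t⁻¹ with hv'
    have hv'e : v' = xc hp (vec D l m) 1 * y' := by
      have h1 := (act hp hm ht).2 c
      rw [← cX_vec hp ht hm, hma, ht2, inv_mul_cancel₀ hc0] at h1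
      rw [hv', hy', ← hma] at *
      calc t * (xc hp (vec D l m) c * y) * t⁻¹ = (t * xc hp (vec D l m) c * t⁻¹) * (t * y * t⁻¹) := by group
        _ = _ := by rw [h1]
    have hcv' : s * v' = v' * s := by
      have h1 : s * t = t * s := hts.symm
      have h2 : s * t⁻¹ = t⁻¹ * s := by
        have : Commute s t := h1
        exact this.inv_right
      calc s * v' = (s * t) * (xc hp (vec D l m) c * y) * t⁻¹ := by rw [hv']; group
        _ = t * (s * (xc hp (vec D l m) c * y)) * t⁻¹ := by rw [h1]; group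
        _ = t * (xc hp (vec D l m) c * y) * (s * t⁻¹) := by rw [hc]; group
        _ = v' * s := by rw [h2, hv']; group
    have hv'1 : v' ≠ 1 := by
      intro h
      apply hv1
      have : xc hp (vec D l m) c * y = t⁻¹ * v' * t := by rw [hv']; group
      rw [this, h]; group
    have hv'S : v' ∈ RGD.Sup (XX D l k) S := by
      rw [hv'e]
      refine mul_mem (RGD.le_Sup (hma ▸ ha) ?_) (RGD.Sup_mono hS'S hy'S)
      rw [LangThm.mem_XX_vec hp hm]
      exact ⟨_, coe_xc hp hm _⟩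
    have hφy : phi D k r n y' ∈ RGD.Sup (XX D l k) S' := phi_Sup hp cs r n (fun b hb => hroot b (hS'N hb)) hy'S
    have hφv : phi D k r n v' = xc hp (vec D l m) 1 * phi D k r n y' := by
      rw [hv'e, map_mul, H378.TorChar.phi_xc hp r hm, one_pow]
    by_cases hfix : v'⁻¹ * phi D k r n v' = 1
    · refine ⟨v', RGD.Sup_mono hS hv'S, hv'1, hcv', (inv_mul_eq_one.1 hfix).symm⟩
    · refine ih S' hS'N hUC' hN' _ ?_ hfix ?_
      · rw [hφv, hv'e]
        have e : (xc hp (vec D l m) 1 * y')⁻¹ * (xc hp (vec D l m) 1 * phi D k r n y') = y'⁻¹ * phi D k r n y' := by group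
        rw [e]
        exact mul_mem (inv_mem hy'S) hφy
      · have h1 : Commute s v' := hcv'
        have h2 : Commute s (phi D k r n v') := by
          have h3 := congrArg (phi D k r n) hcv'
          rw [map_mul (phi D k r n) s v', map_mul (phi D k r n) v' s, hσ] at h3
          exact h3
        exact (h1.inv_right.mul_right h2)

include hk in
/-- **Rational elements of `V_J⁻` commuting with `s ∈ L_J`.** -/
theorem exists_neg {d : ℕ} {B : Fin l → Fin l → ℤ} (hB : InvC D l d B) (hd : d ≠ 0) {J : Set (Fin l)} {n : ℕ}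
    {s : ↥(D.group k)} (hs : s ∈ LJ cs hp.isCartan (TT D k) (XX D l k) J) (hσ : phi D k r n s = s) {v : ↥(D.group k)}
    (hv : v ∈ VNJ cs hp.isCartan (XX D l k) J) (hv1 : v ≠ 1) (hc : s * v = v * s) :
    ∃ v' ∈ VNJ cs hp.isCartan (XX D l k) J, v' ≠ 1 ∧ s * v' = v' * s ∧ phi D k r n v' = v' :=
  exists_neg_aux hp cs hk r hB hd hs hσ _ _ subset_rfl (fun _ _ _ hb _ => hb) rfl v hv hv1 hc

end K

end Cfsg.Agent.H798.RG
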