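import Cfsg.Prelude.Def_Solvable
import Cfsg.Agent.Lib.Cores

/-!
# Radical subgroups invariant under an automorphism (helper798, S3509)
-/

set_option autoImplicit false
set_option linter.unusedSectionVars false

namespace Cfsg.Agent.H798.RG

open Subgroup

variable {Y : Type*} [Group Y]

/-- the largest normal `p`-subgroup of the normalizer -/
noncomputable def OpN (p : ℕ) (P : Subgroup Y) : Subgroup Y :=
  (Cfsg.pCore p ↥(normalizer (P : Set Y))).map (normalizer (P : Set Y)).subtype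

theorem OpN_le (p : ℕ) (P : Subgroup Y) : OpN p P ≤ normalizer (P : Set Y) := Subgroup.map_subtype_le _

theorem le_OpN {p : ℕ} {P R : Subgroup Y} (hR : IsPGroup p R) (h1 : R ≤ normalizer (P : Set Y))
    (h2 : normalizer (P : Set Y) ≤ normalizer (R : Set Y)) : R ≤ OpN p P := by
  have hn : (R.subgroupOf (normalizer (P : Set Y))).Normal := by
    constructor
    rintro ⟨x, hx⟩ hxR ⟨g, hg⟩
    rw [mem_subgroupOf] at hxR ⊢
    exact (mem_normalizer_iff.1 (h2 hg) x).1 hxR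
  have hp : IsPGroup p ↥(R.subgroupOf (normalizer (P : Set Y))) := by
    intro x
    obtain ⟨k, hk⟩ := hR ⟨((x : ↥(normalizer (P : Set Y))) : Y), x.2⟩
    refine ⟨k, Subtype.ext (Subtype.ext ?_)⟩
    simpa using congrArg Subtype.val hk
  have h3 : R.subgroupOf (normalizer (P : Set Y)) ≤ Cfsg.pCore p ↥(normalizer (P : Set Y)) :=
    le_sSup ⟨hn, hp⟩
  intro x hx
  exact ⟨⟨x, h1 hx⟩, h3 (by rw [mem_subgroupOf]; exact hx), rfl⟩

theorem isPGroup_OpN [Finite Y] (p : ℕ) [Fact p.Prime] (P : Subgroup Y) : IsPGroup p (OpN p P) :=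
  (Cfsg.Agent.Lib.Cores.pCore_isPGroup p).map _

theorem normalizer_le_OpN (p : ℕ) (P : Subgroup Y) :
    normalizer (P : Set Y) ≤ normalizer (OpN p P : Set Y) := by
  intro g hg
  have hch : (Cfsg.pCore p ↥(normalizer (P : Set Y))).Normal := inferInstance
  have key : ∀ g ∈ normalizer (P : Set Y), ∀ x ∈ OpN p P, g * x * g⁻¹ ∈ OpN p P := by
    rintro g hg _ ⟨x, hx, rfl⟩
    exact ⟨⟨g, hg⟩ * x * ⟨g, hg⟩⁻¹, hch.conj_mem x hx ⟨g, hg⟩, rfl⟩
  rw [mem_normalizer_iff]
  intro x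
  refine ⟨fun hx => key g hg x hx, fun hx => ?_⟩
  have h1 := key g⁻¹ (inv_mem hg) _ hx
  have e : g⁻¹ * (g * x * g⁻¹) * g⁻¹⁻¹ = x := by group
  rwa [e] at h1

theorem map_normalizer (α : MulAut Y) (P : Subgroup Y) :
    (normalizer (P : Set Y)).map α.toMonoidHom = normalizer ((P.map α.toMonoidHom : Subgroup Y) : Set Y) := by
  ext x
  constructor
  · rintro ⟨g, hg, rfl⟩
    rw [mem_normalizer_iff]
    intro z
    constructor
    · rintro ⟨z, hz, rfl⟩
      refine ⟨g * z * g⁻¹, (mem_normalizer_iff.1 hg z).1 hz, ?_⟩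
      rw [map_mul, map_mul, map_inv]
    · rintro ⟨w, hw, e⟩
      refine ⟨g⁻¹ * w * g, ?_, ?_⟩
      · have := (mem_normalizer_iff.1 (inv_mem hg) w).1 hw
        rwa [inv_inv] at this
      · rw [map_mul, map_mul, map_inv, e]; group
  · intro hx
    obtain ⟨g, rfl⟩ := α.surjective x
    refine ⟨g, ?_, rfl⟩
    show g ∈ normalizer (P : Set Y)
    rw [mem_normalizer_iff]
    intro z
    have h1 := mem_normalizer_iff.1 hx (α z)
    have h2 : ∀ z, α z ∈ P.map α.toMonoidHom ↔ z ∈ P := fun z =>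
      ⟨by rintro ⟨w, hw, e⟩; rwa [← α.injective e], fun hz => ⟨z, hz, rfl⟩⟩
    rw [← map_inv, ← map_mul, ← map_mul, h2, h2] at h1
    exact h1

/-- **Invariant radical subgroups.** -/
theorem exists_radical [Finite Y] {p : ℕ} [Fact p.Prime] {Q : Subgroup Y} (hQ : IsPGroup p Q) {α : MulAut Y}
    (hα : Q.map α.toMonoidHom = Q) : ∃ P : Subgroup Y, IsPGroup p P ∧ Q ≤ P ∧
      normalizer (Q : Set Y) ≤ normalizer (P : Set Y) ∧ P.map α.toMonoidHom = P ∧
      ∀ R : Subgroup Y, IsPGroup p R → R ≤ normalizer (P : Set Y) →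
        normalizer (P : Set Y) ≤ normalizer (R : Set Y) → R ≤ P := by
  obtain ⟨P, hP⟩ := (Set.toFinite {P : Subgroup Y | IsPGroup p P ∧ Q ≤ P ∧
    normalizer (Q : Set Y) ≤ normalizer (P : Set Y) ∧ P.map α.toMonoidHom = P}).exists_maximal ⟨Q, hQ, le_rfl, le_rfl, hα⟩
  obtain ⟨h1, h2, h3, h4⟩ := hP.prop
  have hPO : P ≤ OpN p P := le_OpN h1 le_normalizer le_rfl
  have hO : OpN p P ∈ {P : Subgroup Y | IsPGroup p P ∧ Q ≤ P ∧
      normalizer (Q : Set Y) ≤ normalizer (P : Set Y) ∧ P.map α.toMonoidHom = P} := by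
    refine ⟨isPGroup_OpN p P, h2.trans hPO, h3.trans (normalizer_le_OpN p P), ?_⟩
    have h5 : (OpN p P).map α.toMonoidHom ≤ OpN p P := by
      refine le_OpN ((isPGroup_OpN p P).map _) ?_ ?_
      · have h6 := Subgroup.map_mono (f := α.toMonoidHom) (OpN_le p P)
        rwa [map_normalizer, h4] at h6
      · have h6 := Subgroup.map_mono (f := α.toMonoidHom) (normalizer_le_OpN p P)
        rwa [map_normalizer, map_normalizer, h4] at h6
    refine Subgroup.eq_of_le_of_card_ge h5 ?_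
    exact le_of_eq (Nat.card_congr ((OpN p P).equivMapOfInjective _ α.injective).toEquiv)
  refine ⟨P, h1, h2, h3, h4, fun R hR hR1 hR2 => ?_⟩
  exact (le_OpN hR hR1 hR2).trans (hP.le_of_ge hO hPO)

end Cfsg.Agent.H798.RG
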